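import Groth.Agent.Sga7.H526.Rel
import Groth.Agent.Sga7.H169.CoreDefs

/-!
# `CoreDefs.RelStmt`, verbatim
-/

set_option autoImplicit false
universe u

namespace Groth.Agent.Sga7.H242.RelStmtMain

open Groth.Agent.Sga7

/-- Extension of `φ : C ≃ C` to the separable closure of `Frac C` and the relation
`φ τ = κ τ ^ q φ` with `κ` trivial on the `ℓ`-power roots of `ϖ`. -/
theorem relStmt : H169.CoreDefs.RelStmt.{u} := by
  intro C L Ls _ _ _ _ _ _ _ _ _ _ ϖ ℓ hℓ hℓC φ hϖ q hφ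
  by_cases h0 : ϖ = 0
  · subst h0
    obtain ⟨φL, φt, h1, h2, h3⟩ := H526.Rel.exists_relation (C := C) (L := L) (Ls := Ls) ℓ q hℓC
      1 one_ne_zero φ (map_one φ) hφ
    refine ⟨φt, fun z => by rw [h2, h1], fun τ => ?_⟩
    obtain ⟨κ, hκ, -, -⟩ := h3 τ
    refine ⟨κ, fun n z hz => ?_, fun z => ?_⟩
    · rw [map_zero, map_zero] at hz
      rw [eq_zero_of_pow_eq_zero hz, map_zero]
    · rw [← hκ (φt z), RingEquiv.symm_apply_apply]
  · obtain ⟨φL, φt, h1, h2, h3⟩ := H526.Rel.exists_relation (C := C) (L := L) (Ls := Ls) ℓ q hℓC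
      ϖ h0 φ hϖ hφ
    refine ⟨φt, fun z => by rw [h2, h1], fun τ => ?_⟩
    obtain ⟨κ, hκ, hκ2, -⟩ := h3 τ
    exact ⟨κ, hκ2, fun z => by rw [← hκ (φt z), RingEquiv.symm_apply_apply]⟩

end Groth.Agent.Sga7.H242.RelStmtMain
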