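import Groth.Agent.Sga7.H242.UnipPow
import Groth.Agent.Sga7.H169.EtDelta

/-!
# Endomorphisms trivial modulo `ℓ` have `ℓ`-power order modulo `ℓ ^ ν`

`exists_pow_eq_one`: if `g : Y ⟶ Y` acts trivially on `H^q(Y, ℤ/ℓ)`, then a power `g ^ (ℓ ^ k)` acts trivially on
`H^q(Y, ℤ/ℓ^ν)`.
-/

set_option autoImplicit false

universe u v

namespace Groth.Agent.Sga7.H242.UnipTower

open CategoryTheory CategoryTheory.Limits CategoryTheory.Abelian AlgebraicGeometry Opposite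
  Groth.Agent.Localalg.DeltaFun Groth.Agent.Sga4B.DeltaH Groth.Agent.Sga7.H169.QuasiUnip
  Groth.Agent.Sga7.H169.DeltaTower Groth.Agent.Sga7.H169.EtDelta Groth.Agent.Etcore.HC
  Groth.Agent.Etcore.EtInst
open scoped Groth.Agent.Etcore.EtInst Groth.Agent.Etcore.HC

section Tower

variable {p : ℕ} {M : ℕ → Type v} [∀ a, AddCommGroup (M a)] (S : Tower p M)

theorem sub_one_apply {H : Type*} [AddCommGroup H] (f : AddMonoid.End H) (x : H) :
    (f - 1) x = f x - x := rfl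

theorem pow_mul_comm' (τ : ∀ a, AddMonoid.End (M a))
    (hmul : ∀ (a : ℕ) (x : M a), S.mul a (τ a x) = τ (a + 1) (S.mul a x)) (a n : ℕ) (y : M a) :
    ((τ (a + 1) - 1) ^ n) (S.mul a y) = S.mul a (((τ a - 1) ^ n) y) := by
  induction n generalizing y with
  | zero => rfl
  | succ n ih =>
    rw [pow_succ, pow_succ]
    change ((τ (a + 1) - 1) ^ n) ((τ (a + 1) - 1) (S.mul a y)) =
      S.mul a (((τ a - 1) ^ n) ((τ a - 1) y))
    rw [← ih, sub_one_apply, sub_one_apply, map_sub (S.mul a), hmul]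

/-- Unipotence. -/
theorem sub_one_pow (τ : ∀ a, AddMonoid.End (M a)) (hτ : S.Compat τ)
    (hmul : ∀ (a : ℕ) (x : M a), S.mul a (τ a x) = τ (a + 1) (S.mul a x))
    (h1 : ∀ x : M 1, τ 1 x = x) (a : ℕ) (x : M a) : ((τ a - 1) ^ a) x = 0 := by
  induction a with
  | zero =>
    have h := S.torsion 0 x
    rw [pow_zero, one_smul] at h
    rw [h, map_zero]
  | succ a ih =>
    rw [pow_succ]
    change ((τ (a + 1) - 1) ^ a) ((τ (a + 1) - 1) x) = 0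
    obtain ⟨y, hy⟩ := S.exact a ((τ (a + 1) - 1) x) (by
      rw [sub_one_apply, map_sub, hτ, h1, sub_self])
    rw [← hy, pow_mul_comm' S τ hmul, ih, map_zero]

end Tower

variable {Y : Scheme.{u}} (g : Y ⟶ Y) {ℓ : ℕ}

/-- Trivial action on `H^q(Y, M)` only depends on `M` up to isomorphism. -/
theorem HC_congr_triv {M N : Type} [AddCommGroup M] [AddCommGroup N] (e : M ≃+ N) (q : ℕ)
    (h : ∀ x : HH Y (EtCoh.const Y M) q, HC M g q x = x) (x : HH Y (EtCoh.const Y N) q) :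
    HC N g q x = x := by
  have : IsIso (up.{u + 1} e.toAddMonoidHom) := ⟨up e.symm.toAddMonoidHom, by
    rw [← up_comp, ← up_id]; congr 1; ext x; simp, by
    rw [← up_comp, ← up_id]; congr 1; ext x; simp⟩
  obtain ⟨y, rfl⟩ := (HHmap_bijective (X := Y) ((cstF Y).map (up e.toAddMonoidHom)) q).2 x
  exact (HC_map g q e.toAddMonoidHom y).trans (congrArg _ (h y))

/-- Unipotence on `T^q(ℤ/ℓ^ν)`. -/
theorem comp_sub_one_pow (hℓ : ℓ ≠ 0) (q : ℕ)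
    (h1 : ∀ x : ((constD Y).T q).obj (Zp ℓ 1),
      Groth.Agent.Sga7.H169.DeltaTower.comp (constD Y) q ((hcD g).app q) 1 x = x) (ν : ℕ) :
    (Groth.Agent.Sga7.H169.DeltaTower.comp (constD Y) q ((hcD g).app q) (p := ℓ) ν - 1) ^ ν = 0 := by
  refine AddMonoidHom.ext fun x => ?_
  exact sub_one_pow (tower (constD Y) hℓ q)
    (Groth.Agent.Sga7.H169.DeltaTower.comp (constD Y) q ((hcD g).app q))
    (compat_comp (constD Y) hℓ q ((hcD g).app q))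
    (fun a x => congrArg (fun f => f.hom x) (((hcD g).app q).naturality (up (incZ ℓ a 1))).symm)
    h1 ν x

/-- Unipotence on `H^q(Y, ℤ/ℓ^ν)`. -/
theorem hcEnd_sub_one_pow (hℓ : ℓ ≠ 0) (q : ℕ)
    (h : ∀ x : HH Y (EtCoh.const Y (ZMod ℓ)) q, HC (ZMod ℓ) g q x = x) (ν : ℕ) :
    (hcEnd (ZMod (ℓ ^ ν)) g q - 1) ^ ν = 0 := by
  have h1 : ∀ x : HH Y (EtCoh.const Y (ZMod (ℓ ^ 1))) q, HC (ZMod (ℓ ^ 1)) g q x = x :=
    HC_congr_triv g (ZMod.ringEquivCongr (pow_one ℓ).symm).toAddEquiv q h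
  have h2 := conv_nil _ _ (comp_eq (ℓ := ℓ) (n := q) (a := ν) g) 1 ν (by
    rw [pow_one]
    exact comp_sub_one_pow g hℓ q h1 ν)
  rwa [pow_one] at h2

theorem cast_tower (hℓ : ℓ ≠ 0) (q ν : ℕ) :
    ((ℓ : ℕ) : AddMonoid.End (((constD Y).T q).obj (Zp ℓ ν))) ^ ν = 0 := by
  rw [← Nat.cast_pow]
  refine AddMonoidHom.ext fun x => ?_
  exact (AddMonoid.End.natCast_apply _ _).trans ((tower (constD Y) hℓ q).torsion ν x)

theorem conv_cast {q ν : ℕ} (f : AddMonoid.End (((constD Y).T q).obj (Zp ℓ ν)))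
    (g : AddMonoid.End (HH Y (EtCoh.const Y (ZMod (ℓ ^ ν))) q)) (h : f = g)
    (h1 : ((ℓ : ℕ) : AddMonoid.End (((constD Y).T q).obj (Zp ℓ ν))) ^ ν * f = 0) :
    ((ℓ : ℕ) : AddMonoid.End (HH Y (EtCoh.const Y (ZMod (ℓ ^ ν))) q)) ^ ν * g = 0 := by
  subst h
  exact h1

theorem one_eq (q ν : ℕ) : (1 : AddMonoid.End (((constD Y).T q).obj (Zp ℓ ν))) =
    (1 : AddMonoid.End (HH Y (EtCoh.const Y (ZMod (ℓ ^ ν))) q)) := rfl

/-- `ℓ ^ ν = 0` in `End H^q(Y, ℤ/ℓ^ν)`. -/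
theorem natCast_pow_eq_zero (hℓ : ℓ ≠ 0) (q ν : ℕ) :
    ((ℓ : ℕ) : AddMonoid.End (HH Y (EtCoh.const Y (ZMod (ℓ ^ ν))) q)) ^ ν = 0 := by
  have h := conv_cast (Y := Y) (ℓ := ℓ) (q := q) (ν := ν) 1 1 (one_eq q ν)
    (by rw [cast_tower hℓ, zero_mul])
  rwa [mul_one] at h

/-- **Trivial action modulo `ℓ` implies `ℓ`-power order modulo `ℓ ^ ν`.** -/
theorem exists_pow_eq_one (hℓ : ℓ.Prime) (q : ℕ)
    (h : ∀ x : HH Y (EtCoh.const Y (ZMod ℓ)) q, HC (ZMod ℓ) g q x = x) (ν : ℕ) :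
    ∃ k : ℕ, hcEnd (ZMod (ℓ ^ ν)) g q ^ (ℓ ^ k) = 1 :=
  UnipPow.exists_pow_eq_one hℓ _ ν ν (hcEnd_sub_one_pow g hℓ.ne_zero q h ν)
    (natCast_pow_eq_zero hℓ.ne_zero q ν)

end Groth.Agent.Sga7.H242.UnipTower
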