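import Groth.Agent.Sga7.H138.OpenStab
import Groth.Agent.Etcore.HC
import Mathlib.AlgebraicGeometry.Noetherian

/-!
# Open stabilizers over a non-noetherian base

`exists_open`: for `f : X ⟶ S` locally of finite type and quasi-compact and a field-valued point `s : Spec L ⟶ S`, the
stabilizers in `Gal(Ω/L)` of the classes in `H^q(X ×_S Ω, M)` are open (no separatedness assumption on `f`, `S`).
-/

set_option autoImplicit false
universe u
open CategoryTheory CategoryTheory.Limits AlgebraicGeometry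
open scoped Groth.Agent.Etcore.EtInst Groth.Agent.Etcore.HC
open Groth.Agent.Etcore.EtInst Groth.Agent.Etcore.PullCoh Groth.Agent.Etcore.HC
open Groth.Agent.Sga7.H754.SCDef

namespace Groth.Agent.Sga7.H242.OpenTriv

variable {X S : Scheme.{u}} (f : X ⟶ S) {L Ω : Type u} [Field L] [Field Ω] [Algebra L Ω]
  (s : Spec (CommRingCat.of L) ⟶ S) (t : Spec (CommRingCat.of Ω) ⟶ S)
  (w : Spec.map (CommRingCat.ofHom (algebraMap L Ω)) ≫ s = t)

/-- `Spec Ω ⟶ Spec L`. -/
noncomputable abbrev om (L Ω : Type u) [Field L] [Field Ω] [Algebra L Ω] :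
    Spec (CommRingCat.of Ω) ⟶ Spec (CommRingCat.of L) := Spec.map (CommRingCat.ofHom (algebraMap L Ω))

/-- `(X ×_S L) ×_L Ω ⟶ X ×_S Ω`. -/
noncomputable def e : pullback (pullback.snd f s) (om L Ω) ⟶ pullback f t :=
  pullback.lift (pullback.fst _ _ ≫ pullback.fst f s) (pullback.snd _ _) (by
    rw [← w, Category.assoc, pullback.condition, ← Category.assoc, pullback.condition, Category.assoc])

theorem e_fst : e f s t w ≫ pullback.fst f t = pullback.fst _ _ ≫ pullback.fst f s :=
  pullback.lift_fst _ _ _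

theorem e_snd : e f s t w ≫ pullback.snd f t = pullback.snd _ _ := pullback.lift_snd _ _ _

theorem isIso_e : IsIso (e f s t w) := by
  have h1 : IsPullback (pullback.fst (pullback.snd f s) (om L Ω) ≫ pullback.fst f s)
      (pullback.snd (pullback.snd f s) (om L Ω)) f (om L Ω ≫ s) :=
    (IsPullback.of_hasPullback (pullback.snd f s) (om L Ω)).paste_horiz
      (IsPullback.of_hasPullback f s)
  subst w
  have h2 : IsPullback (pullback.fst f (om L Ω ≫ s)) (pullback.snd f (om L Ω ≫ s)) f (om L Ω ≫ s) :=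
    IsPullback.of_hasPullback _ _
  have : e f s _ rfl = (h1.isoIsPullback _ _ h2).hom := by
    apply pullback.hom_ext
    · rw [e_fst]
      exact (h1.isoIsPullback_hom_fst _ _ h2).symm
    · rw [e_snd]
      exact (h1.isoIsPullback_hom_snd _ _ h2).symm
  rw [this]
  infer_instance

theorem bm_e (σ : Ω →+* Ω)
    (wσ : Spec.map (CommRingCat.ofHom σ) ≫ t = t)
    (wσ' : Spec.map (CommRingCat.ofHom σ) ≫ om L Ω = om L Ω) :
    bm (pullback.snd f s) (Spec.map (CommRingCat.ofHom σ)) (om L Ω) (om L Ω) wσ' ≫ e f s t w =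
      e f s t w ≫ bm f (Spec.map (CommRingCat.ofHom σ)) t t wσ := by
  apply pullback.hom_ext
  · rw [Category.assoc, Category.assoc, bm_fst, e_fst, bm_fst_assoc]
  · rw [Category.assoc, Category.assoc, bm_snd, e_snd, bm_snd, ← Category.assoc, e_snd]

/-- Triviality of the action through the identification. -/
theorem HC_of_HC (M : Type) [AddCommGroup M] (q : ℕ) {Y Y' : Scheme.{u}} (e : Y' ⟶ Y) [IsIso e]
    (a : Y ⟶ Y) (a' : Y' ⟶ Y') (h : a' ≫ e = e ≫ a) (x : HH Y (EtCoh.const Y M) q)
    (hx : HC M a' q (HC M e q x) = HC M e q x) : HC M a q x = x := by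
  refine (bijective_HC_of_isIso M e q).1 ?_
  have h1 := HC_comp M a' e q x
  have h2 := HC_comp M e a q x
  rw [← h2, ← h, h1, hx]

include s w in
/-- **Open stabilizers**. -/
theorem exists_open [LocallyOfFiniteType f] [QuasiCompact f] [IsSepClosure L Ω]
    (M : Type) [AddCommGroup M] (q : ℕ) (x : HH (pullback f t) (EtCoh.const (pullback f t) M) q) :
    ∃ U : OpenSubgroup (Ω ≃ₐ[L] Ω), ∀ σ ∈ U,
      ∀ wσ : Spec.map (CommRingCat.ofHom (σ : Ω →+* Ω)) ≫ t = t,
        PM M f (Spec.map (CommRingCat.ofHom (σ : Ω →+* Ω))) t t wσ q x = x := by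
  have hn : IsLocallyNoetherian (pullback f s) :=
    LocallyOfFiniteType.isLocallyNoetherian (pullback.snd f s)
  have := isIso_e f s t w
  obtain ⟨U, hU⟩ := Groth.Agent.Sga7.H138.OpenStab.exists_openSubgroup_sepClosure (pullback.snd f s) L Ω
    (𝟙 _) (om L Ω) (Category.comp_id _) M q (HC M (e f s t w) q x)
  exact ⟨U, fun σ hσ wσ => HC_of_HC M q (e f s t w) _ _ (bm_e f s t w (σ : Ω →+* Ω) wσ _) x (hU σ hσ)⟩

end Groth.Agent.Sga7.H242.OpenTriv
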