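import Mathlib.FieldTheory.KummerExtension
import Mathlib.FieldTheory.Galois.Infinite
import Mathlib.FieldTheory.Galois.Profinite
import Mathlib.FieldTheory.IsSepClosed
import Mathlib.GroupTheory.PGroup
import Mathlib.GroupTheory.Sylow
import Mathlib.GroupTheory.Nilpotent
import Mathlib.RingTheory.Henselian
import Mathlib.RingTheory.RootsOfUnity.AlgebraicallyClosed
import Mathlib.RingTheory.UniqueFactorizationDomain.Multiplicity
import Mathlib.Topology.Algebra.OpenSubgroup

/-!
# Group theory, Kummer theory, unique factorization: preparations for `KummerTriv`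

* `isCyclic_of_coatom_unique`: a finite group with at most one maximal subgroup is cyclic;
* `index_of_isCoatom`: maximal subgroups of finite `p`-groups are normal of index `p`;
* `exists_kummer_generator`: an open normal subgroup of a Galois group with cyclic quotient of order `N` is the
  stabilizer of some `b` with `b ^ N` in the base field;
* `exists_decomp`: factorization `a = u π ^ m c ^ N` in a factorial ring;
* `exists_root_unit`, `exists_primitiveRoot`: roots of units and roots of unity in strictly henselian rings.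
-/

set_option autoImplicit false
universe u v
open IsLocalRing

namespace Groth.Agent.Sga7.H242.KummerGrp

section Group

theorem isCyclic_of_coatom_unique {Q : Type*} [Group Q] [Finite Q]
    (h : ∀ M M' : Subgroup Q, IsCoatom M → IsCoatom M' → M = M') : IsCyclic Q := by
  rcases subsingleton_or_nontrivial Q with hQ | hQ
  · infer_instance
  obtain h0 | ⟨M, hM, -⟩ := eq_top_or_exists_le_coatom (⊥ : Subgroup Q)
  · exact absurd h0 bot_ne_top
  obtain ⟨g, -, hg⟩ := SetLike.exists_of_lt (lt_top_iff_ne_top.2 hM.1)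
  obtain h1 | ⟨M', hM', hle⟩ := eq_top_or_exists_le_coatom (Subgroup.zpowers g)
  · exact ⟨g, fun x => by
      change x ∈ Subgroup.zpowers g
      rw [h1]
      trivial⟩
  · exact absurd (h M' M hM' hM ▸ hle (Subgroup.mem_zpowers g)) hg

theorem index_of_isCoatom {Q : Type*} [Group Q] [Finite Q] {p : ℕ} [hp : Fact p.Prime] (hQ : IsPGroup p Q)
    (M : Subgroup Q) (hM : IsCoatom M) : M.Normal ∧ M.index = p := by
  have hnil : Group.IsNilpotent Q := hQ.isNilpotent
  refine ⟨Subgroup.NormalizerCondition.normal_of_coatom M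
    (Group.normalizerCondition_of_isNilpotent) hM, ?_⟩
  obtain ⟨n, hn⟩ := (hQ.to_subgroup M).exists_card_eq
  obtain ⟨r, hr⟩ := hQ.exists_card_eq
  have hlt : n < r := by
    by_contra hle
    apply hM.1
    apply Subgroup.eq_top_of_le_card
    rw [hn, hr]
    exact Nat.pow_le_pow_right hp.out.pos (not_lt.1 hle)
  obtain ⟨K, hK, hMK⟩ := Sylow.exists_subgroup_card_pow_succ (p := p) (n := n)
    (hr ▸ pow_dvd_pow p hlt) hn
  have hKtop : K = ⊤ := by
    refine hM.2 K (lt_of_le_of_ne hMK ?_)
    rintro rfl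
    rw [hn] at hK
    exact absurd (Nat.pow_right_injective hp.out.two_le hK) (by omega)
  have h1 : Nat.card Q = p ^ (n + 1) := by
    rw [← hK, hKtop, Subgroup.card_top]
  have h2 := M.card_mul_index
  rw [hn, h1, pow_succ] at h2
  exact Nat.eq_of_mul_eq_mul_left (pow_pos hp.out.pos n) h2

end Group

section Galois

variable {F Ω : Type*} [Field F] [Field Ω] [Algebra F Ω] [IsGalois F Ω]

theorem exists_kummer_generator (H : Subgroup (Ω ≃ₐ[F] Ω)) (hop : IsOpen (H : Set (Ω ≃ₐ[F] Ω))) [H.Normal]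
    [IsCyclic ((Ω ≃ₐ[F] Ω) ⧸ H)] (N : ℕ) (hN : H.index = N) (ζ : F) (hζ : IsPrimitiveRoot ζ N) :
    ∃ b : Ω, b ^ N ∈ Set.range (algebraMap F Ω) ∧ ∀ σ : Ω ≃ₐ[F] Ω, σ b = b ↔ σ ∈ H := by
  have hcl : IsClosed (H : Set (Ω ≃ₐ[F] Ω)) := H.isClosed_of_isOpen hop
  let H' : ClosedSubgroup (Ω ≃ₐ[F] Ω) := ⟨H, hcl⟩
  have hH' : H'.toSubgroup = H := rfl
  have : H'.Normal := by rw [hH']; infer_instance
  let E : IntermediateField F Ω := IntermediateField.fixedField H
  have hE : E.fixingSubgroup = H := InfiniteGalois.fixingSubgroup_fixedField H'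
  obtain ⟨hfin, hgal⟩ := (InfiniteGalois.isOpen_and_normal_iff_finite_and_isGalois E).1 (by
    rw [hE]; exact ⟨hop, inferInstance⟩)
  let e : (Ω ≃ₐ[F] Ω) ⧸ H ≃* (E ≃ₐ[F] E) := InfiniteGalois.normalAutEquivQuotient H'
  have hcyc : IsCyclic (E ≃ₐ[F] E) := isCyclic_of_surjective e.toMonoidHom e.surjective
  have hrank : Module.finrank F E = N := by
    rw [← IsGalois.card_aut_eq_finrank, ← Nat.card_congr e.toEquiv, ← hN]
    rfl
  obtain ⟨α, hα1, hα2⟩ := exists_root_adjoin_eq_top_of_isCyclic F E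
    ⟨ζ, by rw [hrank, mem_primitiveRoots (by rw [← hrank]; exact Module.finrank_pos)]; exact hζ⟩
  rw [hrank] at hα1
  refine ⟨α, ?_, fun σ => ?_⟩
  · obtain ⟨a, ha⟩ := hα1
    exact ⟨a, by rw [← SubmonoidClass.coe_pow, ← ha]; rfl⟩
  · constructor
    · intro h
      rw [← hE, IntermediateField.mem_fixingSubgroup_iff]
      intro x hx
      have h1 : (⟨x, hx⟩ : E) ∈ (IntermediateField.adjoin F {α}) := by rw [hα2]; trivial
      obtain ⟨p, q, hpq⟩ := (IntermediateField.mem_adjoin_simple_iff F _).1 h1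
      have h2 : x = Polynomial.aeval (α : Ω) p / Polynomial.aeval (α : Ω) q := by
        have h3 := congrArg (algebraMap E Ω) hpq
        rw [map_div₀, ← Polynomial.aeval_algebraMap_apply, ← Polynomial.aeval_algebraMap_apply] at h3
        exact h3
      have h4 : ∀ r : Polynomial F, σ (Polynomial.aeval (α : Ω) r) = Polynomial.aeval (α : Ω) r := by
        intro r
        rw [← AlgEquiv.coe_toAlgHom, ← Polynomial.aeval_algHom_apply, AlgEquiv.coe_toAlgHom, h]
      rw [h2, map_div₀, h4, h4]
    · intro h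
      rw [← hE, IntermediateField.mem_fixingSubgroup_iff] at h
      exact h α α.2

end Galois

section UFD

theorem exists_decomp {C : Type*} [CommRing C] [IsDomain C] [UniqueFactorizationMonoid C] (π : C)
    (hπ : Prime π) (N : ℕ) (hN : 0 < N) (a : C) (ha : a ≠ 0)
    (h : ∀ q : C, Prime q → ¬ Associated q π → N ∣ multiplicity q a) :
    ∃ (w : Cˣ) (m : ℕ) (c : C), a = w * π ^ m * c ^ N := by
  revert ha h
  have hwf : WellFounded (DvdNotUnit (α := C)) := IsWellFounded.wf
  refine hwf.induction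
    (C := fun a => a ≠ 0 → (∀ q : C, Prime q → ¬ Associated q π → N ∣ multiplicity q a) →
      ∃ (w : Cˣ) (m : ℕ) (c : C), a = w * π ^ m * c ^ N) a ?_
  intro a ih ha h
  by_cases hu : IsUnit a
  · exact ⟨hu.unit, 0, 1, by simp⟩
  obtain ⟨q, hq, hqa⟩ := WfDvdMonoid.exists_irreducible_factor hu ha
  have hqp : Prime q := UniqueFactorizationMonoid.irreducible_iff_prime.1 hq
  have hfin : ∀ {p x : C}, Prime p → x ≠ 0 → FiniteMultiplicity p x := fun hp hx =>
    FiniteMultiplicity.of_not_isUnit hp.not_isUnit hx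
  by_cases hqπ : Associated q π
  · obtain ⟨a₁, rfl⟩ : π ∣ a := hqπ.dvd_iff_dvd_left.1 hqa
    have ha₁ : a₁ ≠ 0 := right_ne_zero_of_mul ha
    obtain ⟨w, m, c, hc⟩ := ih a₁ ⟨ha₁, π, hπ.not_isUnit, mul_comm _ _⟩ ha₁ (fun p hp hpπ => by
      have h1 := h p hp hpπ
      rw [multiplicity_mul hp (hfin hp ha), multiplicity_eq_zero.2, zero_add] at h1
      · exact h1
      · intro hdvd
        exact hpπ (hp.associated_of_dvd hπ hdvd))
    exact ⟨w, m + 1, c, by rw [hc]; ring⟩
  · have hd := h q hqp hqπ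
    have hpos : multiplicity q a ≠ 0 := by
      rw [Ne, multiplicity_eq_zero]
      exact fun hn => hn hqa
    have hle : N ≤ multiplicity q a := Nat.le_of_dvd (Nat.pos_of_ne_zero hpos) hd
    obtain ⟨a₁, rfl⟩ : q ^ N ∣ a := (pow_dvd_pow q hle).trans (pow_multiplicity_dvd q a)
    have ha₁ : a₁ ≠ 0 := right_ne_zero_of_mul ha
    obtain ⟨w, m, c, hc⟩ := ih a₁ ⟨ha₁, q ^ N, fun hun => hqp.not_isUnit
        ((isUnit_pow_iff hN.ne').1 hun), mul_comm _ _⟩ ha₁ (fun p hp hpπ => by
      have h1 := h p hp hpπ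
      rw [multiplicity_mul hp (hfin hp ha), (hfin hp hqp.ne_zero).multiplicity_pow hp] at h1
      exact (Nat.dvd_add_right (dvd_mul_right _ _)).1 h1)
    exact ⟨w, m, q * c, by rw [hc]; ring⟩

end UFD

section Hensel

variable {C : Type*} [CommRing C] [HenselianLocalRing C]

/-- Lifting of roots of `X ^ N = w`, `w` a unit, in a henselian local ring in which `N` is invertible. -/
theorem exists_root_unit (N : ℕ) (hN : IsUnit (N : C)) (w : C) (hw : IsUnit w) (z : ResidueField C)
    (hz : z ^ N = residue C w) : ∃ x : C, x ^ N = w ∧ residue C x = z := by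
  obtain ⟨x₀, rfl⟩ := residue_surjective z
  have hN0 : N ≠ 0 := by
    rintro rfl
    rw [Nat.cast_zero] at hN
    exact not_isUnit_zero hN
  have hx₀ : IsUnit x₀ := by
    have h1 : residue C (x₀ ^ N) = residue C w := by rw [map_pow, hz]
    have h2 : IsUnit (x₀ ^ N) := by
      apply (isUnit_map_iff (residue C) _).1
      rw [h1]
      exact hw.map _
    exact (isUnit_pow_iff hN0).1 h2
  obtain ⟨x, hx1, hx2⟩ := HenselianLocalRing.is_henselian (Polynomial.X ^ N - Polynomial.C w)
    (Polynomial.monic_X_pow_sub_C w hN0) x₀ (by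
      rw [← residue_eq_zero_iff]
      simp [hz]) (by
      rw [Polynomial.derivative_sub, Polynomial.derivative_X_pow, Polynomial.derivative_C, sub_zero]
      simp only [map_natCast, Polynomial.eval_mul, Polynomial.eval_natCast, Polynomial.eval_pow,
        Polynomial.eval_X]
      exact hN.mul (hx₀.pow _))
  refine ⟨x, ?_, ?_⟩
  · have h1 : (Polynomial.X ^ N - Polynomial.C w).eval x = 0 := hx1
    rw [Polynomial.eval_sub, Polynomial.eval_pow, Polynomial.eval_X, Polynomial.eval_C, sub_eq_zero] at h1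
    exact h1
  · rw [← sub_eq_zero, ← map_sub, residue_eq_zero_iff]
    exact hx2

variable [IsSepClosed (ResidueField C)]

theorem exists_pow_eq_unit (N : ℕ) (hN : IsUnit (N : C)) (w : C) (hw : IsUnit w) :
    ∃ x : C, x ^ N = w := by
  have : NeZero (N : ResidueField C) := ⟨by
    have := hN.map (residue C)
    rw [map_natCast] at this
    exact this.ne_zero⟩
  obtain ⟨z, hz⟩ := IsSepClosed.exists_pow_nat_eq (residue C w) N
  obtain ⟨x, hx, -⟩ := exists_root_unit N hN w hw z hz
  exact ⟨x, hx⟩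

theorem exists_primitiveRoot (N : ℕ) (hN : IsUnit (N : C)) : ∃ ζ : C, IsPrimitiveRoot ζ N := by
  have : NeZero (N : ResidueField C) := ⟨by
    have := hN.map (residue C)
    rw [map_natCast] at this
    exact this.ne_zero⟩
  obtain ⟨z, hz⟩ := HasEnoughRootsOfUnity.exists_primitiveRoot (ResidueField C) N
  obtain ⟨x, hx, hxz⟩ := exists_root_unit N hN (1 : C) isUnit_one z (by rw [hz.pow_eq_one, map_one])
  refine ⟨x, hx, fun l hl => hz.dvd_of_pow_eq_one l ?_⟩
  rw [← hxz, ← map_pow, hl, map_one]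

end Hensel

end Groth.Agent.Sga7.H242.KummerGrp
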