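import Mathlib.NumberTheory.Basic
import Mathlib.Algebra.CharP.Lemmas
import Mathlib.RingTheory.Ideal.Span
import Mathlib.RingTheory.Ideal.Quotient.Operations
import Mathlib.Algebra.Polynomial.AlgebraMap

/-!
# Unipotent elements of rings killed by a power of a prime have order a power of this prime
-/

set_option autoImplicit false

open Polynomial

namespace Groth.Agent.Sga7.H242.UnipPow

/-- The commutative case. -/
theorem exists_pow_eq_one_comm {A : Type*} [CommRing A] {ℓ : ℕ} (hℓ : ℓ.Prime) (g : A) (N ν : ℕ)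
    (h : (g - 1) ^ N = 0) (hν : (ℓ : A) ^ ν = 0) : ∃ k : ℕ, g ^ (ℓ ^ k) = 1 := by
  obtain ⟨r, hr⟩ := exists_add_pow_prime_pow_eq hℓ (g - 1) 1 N
  have h0 : (g - 1) ^ (ℓ ^ N) = 0 := pow_eq_zero_of_le (Nat.lt_pow_self hℓ.one_lt).le h
  rw [sub_add_cancel, one_pow, h0, zero_add] at hr
  have h1 : (ℓ : A) ∣ g ^ (ℓ ^ N) - 1 := ⟨(g - 1) * 1 * r, by rw [hr]; ring⟩
  obtain ⟨c, hc⟩ := dvd_sub_pow_of_dvd_sub h1 ν
  refine ⟨N + ν, ?_⟩
  rw [one_pow, pow_succ, hν, zero_mul, zero_mul, ← pow_mul, ← pow_add] at hc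
  exact sub_eq_zero.1 hc

/-- If `(g - 1) ^ N = 0` and `ℓ ^ ν = 0` in a ring, then `g ^ (ℓ ^ k) = 1` for some `k`. -/
theorem exists_pow_eq_one {A : Type*} [Ring A] {ℓ : ℕ} (hℓ : ℓ.Prime) (g : A) (N ν : ℕ)
    (h : (g - 1) ^ N = 0) (hν : (ℓ : A) ^ ν = 0) : ∃ k : ℕ, g ^ (ℓ ^ k) = 1 := by
  let I : Ideal ℤ[X] := Ideal.span {(X - 1) ^ N, (ℓ : ℤ[X]) ^ ν}
  obtain ⟨k, hk⟩ := exists_pow_eq_one_comm hℓ (Ideal.Quotient.mk I X) N ν
    (by
      rw [← map_one (Ideal.Quotient.mk I), ← map_sub, ← map_pow, Ideal.Quotient.eq_zero_iff_mem]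
      exact Ideal.subset_span (by simp))
    (by
      rw [← map_natCast (Ideal.Quotient.mk I), ← map_pow, Ideal.Quotient.eq_zero_iff_mem]
      exact Ideal.subset_span (by simp))
  rw [← map_one (Ideal.Quotient.mk I), ← map_pow, Ideal.Quotient.eq, Ideal.mem_span_pair] at hk
  obtain ⟨a, b, hab⟩ := hk
  refine ⟨k, ?_⟩
  have h1 := congrArg (aeval g) hab
  rw [map_add, map_mul, map_mul, map_pow, map_pow, map_sub, map_sub, map_one, map_pow, aeval_X, h,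
    map_natCast, hν, mul_zero, mul_zero, add_zero] at h1
  exact (sub_eq_zero.1 h1.symm)

end Groth.Agent.Sga7.H242.UnipPow
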